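import Mathlib

/-! Independent five-sets in a strongly regular graph on fifteen points of degree six. -/

set_option autoImplicit false

namespace Cfsg.Agent.SRGSeventySeven

open Finset

variable {ι : Type*} [Fintype ι] [DecidableEq ι]

/-- Each point of a strongly regular graph with parameters `(15, 6, 1, 3)` lies in exactly two
independent five-sets. -/
theorem two_indep_five (B : ι → ι → Prop) [DecidableRel B] (hι : Fintype.card ι = 15)
    (hs : ∀ a b, B a b → B b a) (hirr : ∀ a, ¬ B a a)
    (hdeg : ∀ a, (univ.filter (B a)).card = 6)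
    (hlam : ∀ a b, B a b → (univ.filter fun w => B a w ∧ B b w).card = 1)
    (hmu : ∀ a b, a ≠ b → ¬ B a b → (univ.filter fun w => B a w ∧ B b w).card = 3) (c : ι) :
    ((univ.powersetCard 5).filter fun S : Finset ι =>
      c ∈ S ∧ ∀ a ∈ S, ∀ b ∈ S, ¬ B a b).card = 2 := by
  set P := univ.filter (B c) with hP
  set U := (univ : Finset ι) \ insert c P with hU
  have memU : ∀ u, u ∈ U ↔ u ≠ c ∧ ¬ B c u := fun u => by simp [hU, hP, not_or]
  have memP : ∀ p, p ∈ P ↔ B c p := fun p => by simp [hP]
  have hUcard : U.card = 8 := by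
    rw [hU, card_sdiff_of_subset (subset_univ _),
      card_insert_of_notMem (by rw [memP]; exact hirr c), hP, hdeg, card_univ, hι]
  set t : ι → Finset ι := fun u => P.filter (B u) with ht
  set nb : ι → Finset ι := fun u => U.filter (B u) with hnb
  have split : ∀ (p : ι → Prop) [DecidablePred p], ¬ p c →
      (univ.filter p).card = (P.filter p).card + (U.filter p).card := fun p _ hpc => by
    rw [← card_union_of_disjoint]
    · congr 1
      ext w
      simp only [mem_union, mem_filter, mem_univ, true_and, memP, memU]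
      grind
    · rw [disjoint_left]
      intro w h1 h2
      simp only [mem_filter, memP, memU] at h1 h2
      exact h2.1.2 h1.1
  have t3 : ∀ u ∈ U, (t u).card = 3 := fun u hu => by
    obtain ⟨h1, h2⟩ := (memU u).1 hu
    rw [← hmu c u h1.symm h2]
    congr 1; ext w; simp [ht, memP]
  have nb3 : ∀ u ∈ U, (nb u).card = 3 := fun u hu => by
    have h := split (B u) (fun h => ((memU u).1 hu).2 (hs _ _ h))
    have h' := t3 u hu
    simp only [hdeg] at h
    simp only [ht, hnb] at h' ⊢
    omega
  have comm : ∀ u ∈ U, ∀ v, (univ.filter fun w => B u w ∧ B v w).card =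
      (t u ∩ t v).card + (nb u ∩ nb v).card := fun u hu v => by
    rw [split _ (fun h => ((memU u).1 hu).2 (hs _ _ h.1))]
    congr 2 <;> (ext w; simp only [ht, hnb, mem_inter, mem_filter]; tauto)
  -- through each point of the trace there is exactly one neighbour
  have one : ∀ u ∈ U, ∀ p ∈ t u, ((nb u).filter fun v => p ∈ t v).card = 1 := fun u hu p hp => by
    simp only [ht, mem_filter, memP] at hp
    rw [← hlam u p hp.2]
    congr 1
    ext w
    simp only [hnb, ht, mem_filter, mem_univ, true_and, memP, memU]
    constructor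
    · rintro ⟨⟨-, h1⟩, -, h2⟩; exact ⟨h1, hs _ _ h2⟩
    · rintro ⟨h1, h2⟩
      refine ⟨⟨⟨?_, ?_⟩, h1⟩, hp.1, hs _ _ h2⟩
      · rintro rfl; exact ((memU u).1 hu).2 (hs _ _ h1)
      · intro hcw
        obtain ⟨q, hq⟩ := card_eq_one.1 (hlam c p hp.1)
        have e1 : w ∈ ({q} : Finset ι) := hq ▸ mem_filter.2 ⟨mem_univ _, hcw, h2⟩
        have e2 : u ∈ univ.filter (fun z => B p z ∧ B w z) := by simp [hs _ _ hp.2, hs _ _ h1]
        have e3 : c ∈ univ.filter (fun z => B p z ∧ B w z) := by simp [hs _ _ hp.1, hs _ _ hcw]
        have := card_le_one.1 (hlam p w h2).le _ e2 _ e3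
        exact ((memU u).1 hu).1 this
  have adj1 : ∀ u ∈ U, ∀ v ∈ nb u, (t u ∩ t v).card = 1 ∧ nb u ∩ nb v = ∅ := by
    intro u hu v hv
    have hsum : ∑ v ∈ nb u, (t u ∩ t v).card = ∑ v ∈ nb u, 1 := by
      have : ∀ v, t u ∩ t v = (t u).filter fun p => p ∈ t v := fun v => (filter_mem_eq_inter).symm
      simp only [this, card_filter]
      rw [sum_comm, sum_congr rfl fun p hp => by rw [← card_filter, one u hu p hp]]
      simp [t3 u hu, nb3 u hu]
    have hle : ∀ v ∈ nb u, (t u ∩ t v).card ≤ 1 := fun v hv => by
      have := comm u hu v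
      rw [hlam u v (mem_filter.1 hv).2] at this
      omega
    have h1 := (sum_eq_sum_iff_of_le hle).1 hsum v hv
    have := comm u hu v
    rw [hlam u v (mem_filter.1 hv).2, h1] at this
    exact ⟨h1, card_eq_zero.1 (by omega)⟩
  set F : ι → Finset ι := fun u => (U.erase u).filter fun v => ¬ B u v with hF
  have F4 : ∀ u ∈ U, (F u).card = 4 := fun u hu => by
    have h := card_filter_add_card_filter_not (s := U.erase u) (B u)
    have e : (U.erase u).filter (B u) = nb u := by
      ext w; simp only [hnb, mem_filter, mem_erase]; grind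
    rw [e, nb3 u hu, card_erase_of_mem hu, hUcard] at h
    simp only [hF]
    omega
  have far : ∀ u ∈ U, ∀ v ∈ F u, (t u ∩ t v).card + (nb u ∩ nb v).card = 3 := fun u hu v hv => by
    simp only [hF, mem_filter, mem_erase] at hv
    rw [← comm u hu v, hmu u v hv.1.1.symm hv.2]
  have far0 : ∀ u ∈ U, ∀ v ∈ F u, (t u ∩ t v).card ≠ 0 := by
    intro u hu v hv h0
    have hf := far u hu v hv
    have hvU : v ∈ U := (mem_erase.1 (mem_filter.1 hv).1).2
    have he : nb u ∩ nb v = nb u := eq_of_subset_of_card_le inter_subset_left (by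
      rw [nb3 u hu]; omega)
    obtain ⟨w, hw⟩ : (nb u).Nonempty := card_pos.1 (by rw [nb3 u hu]; norm_num)
    have hwv : w ∈ nb v := (mem_inter.1 (he.symm ▸ hw : w ∈ nb u ∩ nb v)).2
    have hwU : w ∈ U := (mem_filter.1 hw).1
    have htP : t u ∪ t v = P := eq_of_subset_of_card_le
      (union_subset (filter_subset _ _) (filter_subset _ _)) (by
        have := card_union_add_card_inter (t u) (t v)
        rw [t3 u hu, t3 v hvU] at this
        have := hdeg c
        rw [← hP] at this
        omega)
    have : t w ⊆ (t u ∩ t w) ∪ (t v ∩ t w) := fun p hp => by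
      have : p ∈ t u ∪ t v := htP ▸ (filter_subset _ _ hp)
      simp only [mem_union, mem_inter] at this ⊢
      tauto
    have := (card_le_card this).trans (card_union_le _ _)
    rw [t3 w hwU, (adj1 u hu w hw).1, (adj1 v hvU w hwv).1] at this
    omega
  have Fsum : ∀ u ∈ U, ∑ v ∈ F u, (t u ∩ t v).card = 6 := by
    intro u hu
    have hp : ∀ p ∈ P, (U.filter fun v => p ∈ t v).card = 4 := fun p hp => by
      rw [memP] at hp
      have h := card_filter_add_card_filter_not (s := univ.filter (B p)) (fun v => v ∈ U)
      have e : (univ.filter (B p)).filter (fun v => ¬ v ∈ U) =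
          insert c (univ.filter fun w => B c w ∧ B p w) := by
        ext w
        simp only [mem_filter, mem_univ, true_and, mem_insert, memU]
        grind
      rw [e, card_insert_of_notMem (by simp [hirr]), hlam c p hp, hdeg] at h
      have e2 : (univ.filter (B p)).filter (fun v => v ∈ U) = U.filter fun v => p ∈ t v := by
        ext w
        simp only [mem_filter, mem_univ, true_and, ht, memP]
        grind
      rw [e2] at h
      omega
    have htot : ∑ v ∈ U, (t u ∩ t v).card = 12 := by
      have : ∀ v, t u ∩ t v = (t u).filter fun p => p ∈ t v := fun v => (filter_mem_eq_inter).symm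
      simp only [this, card_filter]
      rw [sum_comm, sum_congr rfl fun p hp' => by
        rw [← card_filter, hp p (filter_subset _ _ hp')]]
      simp [t3 u hu]
    rw [← add_sum_erase _ _ hu, inter_self, t3 u hu,
      ← sum_filter_add_sum_filter_not (U.erase u) (B u)] at htot
    have e : (U.erase u).filter (B u) = nb u := by
      ext w; simp only [hnb, mem_filter, mem_erase]; grind
    rw [e, sum_congr rfl fun v hv => (adj1 u hu v hv).1] at htot
    simp [nb3 u hu] at htot
    simp only [hF]
    omega
  -- the twin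
  have twin : ∀ u ∈ U, ∃ u' ∈ F u, nb u ∩ nb u' = ∅ ∧
      ∀ v ∈ (F u).erase u', (nb u ∩ nb v).card = 2 := by
    intro u hu
    have h2 : ∀ p ∈ t u, ∀ q ∈ t u, p ≠ q → ¬ B p q → (univ.filter fun w => B p w ∧ B q w).card = 3 :=
      fun p _ q _ h h' => hmu p q h h'
    have hsq : ∑ v ∈ F u, (t u ∩ t v).card * (t u ∩ t v).card = 12 := by
      have hpair : ∀ p ∈ t u, ∀ q ∈ t u, p ≠ q →
          ((F u).filter fun v => p ∈ t v ∧ q ∈ t v).card = 1 := by
        intro p hp q hq hpq
        have hpq' : ¬ B p q := fun hB => by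
          have e2 : u ∈ univ.filter (fun z => B p z ∧ B q z) := by
            simp [hs _ _ (mem_filter.1 hp).2, hs _ _ (mem_filter.1 hq).2]
          have e3 : c ∈ univ.filter (fun z => B p z ∧ B q z) := by
            simp [hs _ _ ((memP p).1 (mem_filter.1 hp).1), hs _ _ ((memP q).1 (mem_filter.1 hq).1)]
          exact ((memU u).1 hu).1 (card_le_one.1 (hlam p q hB).le _ e2 _ e3)
        have hc' : c ∈ univ.filter fun w => B p w ∧ B q w := by
          simp [hs _ _ ((memP p).1 (mem_filter.1 hp).1), hs _ _ ((memP q).1 (mem_filter.1 hq).1)]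
        have hu' : u ∈ (univ.filter fun w => B p w ∧ B q w).erase c := by
          simp [hs _ _ (mem_filter.1 hp).2, hs _ _ (mem_filter.1 hq).2, ((memU u).1 hu).1]
        have e : (F u).filter (fun v => p ∈ t v ∧ q ∈ t v) =
            ((univ.filter fun w => B p w ∧ B q w).erase c).erase u := by
          ext w
          simp only [hF, ht, mem_filter, mem_erase, mem_univ, true_and, memU, memP]
          have a1 := (memP p).1 (mem_filter.1 hp).1
          have a2 := (memP q).1 (mem_filter.1 hq).1
          constructor
          · rintro ⟨⟨⟨h1, h2, -⟩, -⟩, ⟨-, h3⟩, -, h4⟩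
            exact ⟨h1, h2, hs _ _ h3, hs _ _ h4⟩
          · rintro ⟨h1, h2, h3, h4⟩
            refine ⟨⟨⟨h1, h2, ?_⟩, ?_⟩, ⟨a1, hs _ _ h3⟩, a2, hs _ _ h4⟩
            · intro hcw
              exact hpq (card_le_one.1 (hlam c w hcw).le p (by simp [a1, hs _ _ h3]) q
                (by simp [a2, hs _ _ h4]))
            · intro huw
              exact hpq (card_le_one.1 (hlam u w huw).le p
                (by simp [(mem_filter.1 hp).2, hs _ _ h3]) q
                (by simp [(mem_filter.1 hq).2, hs _ _ h4]))
        rw [e, card_erase_of_mem hu', card_erase_of_mem hc', hmu p q hpq hpq']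
      have hi : ∀ v, (t u ∩ t v).card = ∑ p ∈ t u, if p ∈ t v then 1 else 0 := fun v => by
        rw [← card_filter, filter_mem_eq_inter]
      have hone : ∑ v ∈ F u, (t u ∩ t v).card = 6 := Fsum u hu
      have key : ∀ v, (t u ∩ t v).card * (t u ∩ t v).card = (t u ∩ t v).card +
          ∑ p ∈ t u, ∑ q ∈ (t u).erase p, if p ∈ t v ∧ q ∈ t v then 1 else 0 := by
        intro v
        rw [hi, sum_mul_sum, ← sum_add_distrib]
        refine sum_congr rfl fun p hp => ?_
        rw [← add_sum_erase _ _ hp]
        congr 1
        · by_cases h : p ∈ t v <;> simp [h]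
        · exact sum_congr rfl fun q _ => by by_cases h : p ∈ t v <;> simp [h]
      simp only [key, sum_add_distrib, hone]
      rw [sum_comm, sum_congr rfl fun p hp => by
        rw [sum_comm, sum_congr rfl fun q hq => by
          rw [← card_filter, hpair p hp q (mem_of_mem_erase hq) (ne_of_mem_erase hq).symm]]]
      simp +contextual [card_erase_of_mem, t3 u hu]
    have hex : ∃ u' ∈ F u, (t u ∩ t u').card = 3 := by
      by_contra hno
      push Not at hno
      have : ∀ v ∈ F u, (t u ∩ t v).card * (t u ∩ t v).card + 2 = 3 * (t u ∩ t v).card := by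
        intro v hv
        have h1 := far u hu v hv
        have h2 := far0 u hu v hv
        have h3 := hno v hv
        have : (t u ∩ t v).card ≤ 3 := by omega
        interval_cases h : (t u ∩ t v).card <;> omega
      have := sum_congr rfl this
      rw [sum_add_distrib, hsq, ← mul_sum, Fsum u hu] at this
      simp [F4 u hu] at this
    obtain ⟨u', hu', h3⟩ := hex
    have h := far u hu u' hu'
    refine ⟨u', hu', card_eq_zero.1 (by omega), fun v hv => ?_⟩
    have hs' : ∑ w ∈ (F u).erase u', (t u ∩ t w).card = ∑ w ∈ (F u).erase u', 1 := by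
      have := Fsum u hu
      rw [← add_sum_erase _ _ hu', h3] at this
      simp [card_erase_of_mem hu', F4 u hu]
      omega
    have := (sum_eq_sum_iff_of_le (fun w hw => Nat.one_le_iff_ne_zero.2
      (far0 u hu w (mem_of_mem_erase hw)))).1 hs'.symm v hv
    have := far u hu v (mem_of_mem_erase hv)
    omega
  have hUne : U.Nonempty := card_pos.1 (by rw [hUcard]; norm_num)
  obtain ⟨u, hu⟩ := hUne
  obtain ⟨u', hu', hdis, h2⟩ := twin u hu
  set E := (F u).erase u' with hE
  have hu'U : u' ∈ U := (mem_erase.1 (mem_filter.1 hu').1).2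
  have hu'ne : u' ≠ u := (mem_erase.1 (mem_filter.1 hu').1).1
  have E3 : E.card = 3 := by rw [hE, card_erase_of_mem hu', F4 u hu]
  have hnu' : nb u' = E := by
    refine eq_of_subset_of_card_le (fun w hw => ?_) (by rw [E3, nb3 u' hu'U])
    have hw' : w ∉ nb u := fun h => by
      have : w ∈ nb u ∩ nb u' := mem_inter.2 ⟨h, hw⟩
      rw [hdis] at this
      simp at this
    simp only [hE, hF, hnb, mem_filter, mem_erase] at hw hw' ⊢
    refine ⟨?_, ⟨?_, hw.1⟩, fun h => hw' ⟨hw.1, h⟩⟩
    · rintro rfl; exact hirr _ hw.2
    · rintro rfl; exact (mem_filter.1 hu').2 (hs _ _ hw.2)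
  have hcov : ∀ w ∈ U, w = u ∨ w = u' ∨ w ∈ nb u ∨ w ∈ E := fun w hw => by
    simp only [hE, hF, hnb, mem_filter, mem_erase]
    grind
  -- the non-neighbour across is unique
  have hx : ∀ v ∈ nb u, (E.filter fun w => ¬ B v w).card = 1 := by
    intro v hv
    have hvU : v ∈ U := (mem_filter.1 hv).1
    have h := nb3 v hvU
    have e : nb v = insert u (E.filter (B v)) := by
      ext w
      constructor
      · intro hw
        obtain ⟨hwU, hvw⟩ := mem_filter.1 hw
        rcases hcov w hwU with rfl | rfl | hwn | hwE
        · exact mem_insert_self _ _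
        · exact absurd (mem_inter.2 ⟨hv, mem_filter.2 ⟨hvU, hs _ _ hvw⟩⟩) (by rw [hdis]; simp)
        · exact absurd (mem_inter.2 ⟨hwn, hw⟩) (by rw [(adj1 u hu v hv).2]; simp)
        · exact mem_insert_of_mem (mem_filter.2 ⟨hwE, hvw⟩)
      · simp only [mem_insert, mem_filter, hnb]
        rintro (rfl | ⟨hwE, hvw⟩)
        · exact ⟨hu, hs _ _ (mem_filter.1 hv).2⟩
        · exact ⟨(mem_erase.1 (mem_filter.1 (mem_of_mem_erase hwE)).1).2, hvw⟩
    rw [e, card_insert_of_notMem (by simp [hE, hF])] at h
    have := card_filter_add_card_filter_not (s := E) (B v)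
    omega
  have hy : ∀ w ∈ E, ((nb u).filter fun v => ¬ B w v).card = 1 := fun w hw => by
    have h := card_filter_add_card_filter_not (s := nb u) (B w)
    have e : (nb u).filter (B w) = nb u ∩ nb w := by
      ext v; simp [hnb]; tauto
    rw [e, h2 w hw, nb3 u hu] at h
    omega
  have nbi : ∀ v ∈ nb u, ∀ w ∈ nb u, ¬ B v w := fun v hv w hw h => by
    have : w ∈ nb u ∩ nb v := mem_inter.2 ⟨hw, mem_filter.2 ⟨(mem_filter.1 hw).1, h⟩⟩
    rw [(adj1 u hu v hv).2] at this
    simp at this
  have nbi' : ∀ v ∈ E, ∀ w ∈ E, ¬ B v w := fun v hv w hw h => by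
    rw [← hnu'] at hv hw
    have : w ∈ nb u' ∩ nb v := mem_inter.2 ⟨hw, mem_filter.2 ⟨(mem_filter.1 hw).1, h⟩⟩
    rw [(adj1 u' hu'U v hv).2] at this
    simp at this
  have hcU : ∀ w ∈ U, ¬ B c w ∧ ¬ B w c := fun w hw =>
    ⟨((memU w).1 hw).2, fun h => ((memU w).1 hw).2 (hs _ _ h)⟩
  have EU : ∀ w ∈ E, w ∈ U := fun w hw => (mem_erase.1 (mem_filter.1 (mem_of_mem_erase hw)).1).2
  have nU : ∀ w ∈ nb u, w ∈ U := fun w hw => (mem_filter.1 hw).1
  rw [show ((univ.powersetCard 5).filter fun S : Finset ι =>
      c ∈ S ∧ ∀ a ∈ S, ∀ b ∈ S, ¬ B a b) =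
      {insert c (insert u E), insert c (insert u' (nb u))} from ?_]
  · refine card_pair fun h => ?_
    have : u ∈ insert c (insert u' (nb u)) := by rw [← h]; simp
    simp only [mem_insert, hnb, mem_filter] at this
    rcases this with rfl | rfl | h'
    · exact ((memU _).1 hu).1 rfl
    · exact hu'ne rfl
    · exact hirr _ h'.2
  have huE : u ∉ E := by simp [hE, hF]
  have hu'n : u' ∉ nb u := fun h => (mem_filter.1 hu').2 (mem_filter.1 h).2
  ext S
  simp only [mem_filter, mem_powersetCard, subset_univ, true_and, mem_insert, mem_singleton]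
  constructor
  · rintro ⟨hS5, hcS, hind⟩
    have hS' : ∀ w ∈ S, w = c ∨ w ∈ U := fun w hw => by
      by_cases h : w = c
      · exact Or.inl h
      · exact Or.inr ((memU w).2 ⟨h, hind c hcS w hw⟩)
    by_cases h1 : u ∈ S
    · left
      by_cases h1' : u' ∈ S
      · exfalso
        have hsub : S ⊆ {c, u, u'} := fun w hw => by
          simp only [mem_insert, mem_singleton]
          rcases hS' w hw with h | h
          · exact Or.inl h
          rcases hcov w h with h | h | h | h
          · exact Or.inr (Or.inl h)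
          · exact Or.inr (Or.inr h)
          · exact absurd (mem_filter.1 h).2 (hind u h1 w hw)
          · exact absurd (mem_filter.1 (hnu'.symm ▸ h : w ∈ nb u')).2 (hind u' h1' w hw)
        have := (card_le_card hsub).trans card_le_three
        omega
      · refine eq_of_subset_of_card_le (fun w hw => ?_) ?_
        · rcases hS' w hw with h | h
          · simp [h]
          rcases hcov w h with h | h | h | h
          · simp [h]
          · exact absurd (h ▸ hw) h1'
          · exact absurd (mem_filter.1 h).2 (hind u h1 w hw)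
          · simp [h]
        · rw [hS5]
          refine le_of_le_of_eq (card_insert_le _ _) ?_
          rw [card_insert_of_notMem huE, E3]
    · by_cases h1' : u' ∈ S
      · right
        refine eq_of_subset_of_card_le (fun w hw => ?_) ?_
        · rcases hS' w hw with h | h
          · simp [h]
          rcases hcov w h with h | h | h | h
          · exact absurd (h ▸ hw) h1
          · simp [h]
          · simp [h]
          · exact absurd (mem_filter.1 (hnu'.symm ▸ h : w ∈ nb u')).2 (hind u' h1' w hw)
        · rw [hS5]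
          refine le_of_le_of_eq (card_insert_le _ _) ?_
          rw [card_insert_of_notMem hu'n, nb3 u hu]
      · exfalso
        have hsub : S ⊆ insert c ((S ∩ nb u) ∪ (S ∩ E)) := fun w hw => by
          rcases hS' w hw with h | h
          · simp [h]
          rcases hcov w h with h | h | h | h
          · exact absurd (h ▸ hw) h1
          · exact absurd (h ▸ hw) h1'
          · simp [h, hw]
          · simp [h, hw]
        have hb := (card_le_card hsub).trans ((card_insert_le _ _).trans
          (Nat.add_le_add_right (card_union_le _ _) 1))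
        have hn : (S ∩ nb u).card ≤ 3 := (card_le_card inter_subset_right).trans (nb3 u hu).le
        have hn' : (S ∩ E).card ≤ 3 := (card_le_card inter_subset_right).trans E3.le
        obtain ⟨v, hv⟩ : (S ∩ nb u).Nonempty := card_pos.1 (by omega)
        obtain ⟨w, hw⟩ : (S ∩ E).Nonempty := card_pos.1 (by omega)
        rw [mem_inter] at hv hw
        have b1 : (S ∩ E).card ≤ 1 := (hx v hv.2) ▸ card_le_card fun z hz => by
          rw [mem_inter] at hz
          exact mem_filter.2 ⟨hz.2, hind v hv.1 z hz.1⟩
        have b2 : (S ∩ nb u).card ≤ 1 := (hy w hw.2) ▸ card_le_card fun z hz => by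
          rw [mem_inter] at hz
          exact mem_filter.2 ⟨hz.2, hind w hw.1 z hz.1⟩
        omega
  · rintro (rfl | rfl)
    · refine ⟨?_, mem_insert_self _ _, ?_⟩
      · rw [card_insert_of_notMem, card_insert_of_notMem huE, E3]
        simp only [mem_insert, not_or]
        exact ⟨((memU u).1 hu).1.symm, fun h => ((memU c).1 (EU c h)).1 rfl⟩
      · simp only [mem_insert]
        rintro a (rfl | rfl | ha) b (rfl | rfl | hb) h
        · exact hirr _ h
        · exact (hcU _ hu).1 h
        · exact (hcU _ (EU _ hb)).1 h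
        · exact (hcU _ hu).2 h
        · exact hirr _ h
        · exact (mem_filter.1 (mem_of_mem_erase hb)).2 h
        · exact (hcU _ (EU _ ha)).2 h
        · exact (mem_filter.1 (mem_of_mem_erase ha)).2 (hs _ _ h)
        · exact nbi' a ha b hb h
    · refine ⟨?_, mem_insert_self _ _, ?_⟩
      · rw [card_insert_of_notMem, card_insert_of_notMem hu'n, nb3 u hu]
        simp only [mem_insert, not_or]
        exact ⟨((memU u').1 hu'U).1.symm, fun h => ((memU c).1 (nU c h)).1 rfl⟩
      · have hun : ∀ w ∈ nb u, ¬ B u' w := fun w hw h => by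
          have : w ∈ nb u ∩ nb u' := mem_inter.2 ⟨hw, mem_filter.2 ⟨nU w hw, h⟩⟩
          rw [hdis] at this
          simp at this
        simp only [mem_insert]
        rintro a (rfl | rfl | ha) b (rfl | rfl | hb) h
        · exact hirr _ h
        · exact (hcU _ hu'U).1 h
        · exact (hcU _ (nU _ hb)).1 h
        · exact (hcU _ hu'U).2 h
        · exact hirr _ h
        · exact hun b hb h
        · exact (hcU _ (nU _ ha)).2 h
        · exact hun a ha (hs _ _ h)
        · exact nbi a ha b hb h

end Cfsg.Agent.SRGSeventySeven
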