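import Mathlib
import Cfsg.Agent.SRGSeventySeven.Core

/-! The sixty non-neighbours of a point in a strongly regular graph with parameters
`(77, 16, 0, 4)`. -/

set_option autoImplicit false

namespace Cfsg.Agent.SRGSeventySeven

open Finset

variable {V : Type*} [Fintype V] [DecidableEq V] (G : SimpleGraph V) [DecidableRel G.Adj] (x : V)

/-- the non-neighbours of `x` -/
def secondSet : Finset V := univ.filter fun y => y ≠ x ∧ ¬ G.Adj x y

/-- the neighbours shared with `x` -/
def trace (y : V) : Finset V := univ.filter fun a => G.Adj x a ∧ G.Adj y a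

/-- the form on the non-neighbours of `x` -/
def form (y w : V) : ℤ :=
  4 - 3 * ((trace G x y ∩ trace G x w).card : ℤ) - 6 * (if G.Adj y w then 1 else 0) +
    12 * (if y = w then 1 else 0)

variable {G x}

theorem mem_second {y : V} : y ∈ secondSet G x ↔ y ≠ x ∧ ¬ G.Adj x y := by simp [secondSet]

theorem mem_trace {y a : V} : a ∈ trace G x y ↔ G.Adj x a ∧ G.Adj y a := by simp [trace]

section
variable (hG : G.IsSRGWith 77 16 0 4)
include hG

theorem deg (v : V) : (univ.filter (G.Adj v)).card = 16 := by
  rw [← hG.regular v, ← SimpleGraph.card_neighborFinset_eq_degree]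
  congr 1; ext; simp

theorem common_adj {v w : V} (h : G.Adj v w) :
    (univ.filter fun z => G.Adj v z ∧ G.Adj w z).card = 0 := by
  rw [← hG.of_adj v w h, ← Set.toFinset_card]
  congr 1; ext; rw [Set.mem_toFinset]; simp [SimpleGraph.commonNeighbors]

theorem no_tri {a b c : V} (h1 : G.Adj a b) (h2 : G.Adj a c) : ¬ G.Adj b c := fun h3 => by
  have := card_eq_zero.1 (common_adj hG h1)
  have h : c ∈ univ.filter fun z => G.Adj a z ∧ G.Adj b z := by simp [h2, h3]
  rw [this] at h
  simp at h

theorem common_ne {v w : V} (hne : v ≠ w) (h : ¬ G.Adj v w) :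
    (univ.filter fun z => G.Adj v z ∧ G.Adj w z).card = 4 := by
  rw [← hG.of_not_adj hne h, ← Set.toFinset_card]
  congr 1; ext; rw [Set.mem_toFinset]; simp [SimpleGraph.commonNeighbors]

theorem second_card : (secondSet G x).card = 60 := by
  have h : secondSet G x = univ \ insert x (univ.filter (G.Adj x)) := by
    ext y; simp [mem_second, not_or]
  rw [h, card_sdiff_of_subset (subset_univ _), card_insert_of_notMem (by simp), deg hG, card_univ,
    hG.card]

theorem trace_card {y : V} (hy : y ∈ secondSet G x) : (trace G x y).card = 4 :=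
  common_ne hG (mem_second.1 hy).1.symm (mem_second.1 hy).2

theorem second_adj {y : V} (hy : y ∈ secondSet G x) :
    ((secondSet G x).filter (G.Adj y)).card = 12 := by
  have h := card_filter_add_card_filter_not (s := univ.filter (G.Adj y)) (G.Adj x)
  have e1 : (univ.filter (G.Adj y)).filter (G.Adj x) = trace G x y := by
    ext; simp [mem_trace, and_comm]
  have e2 : (univ.filter (G.Adj y)).filter (fun z => ¬ G.Adj x z) =
      (secondSet G x).filter (G.Adj y) := by
    ext z
    simp only [mem_filter, mem_univ, true_and, mem_second]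
    exact ⟨fun h => ⟨⟨fun e => (mem_second.1 hy).2 (e ▸ h.1).symm, h.2⟩, h.1⟩,
      fun h => ⟨h.2, h.1.2⟩⟩
  rw [e1, e2, trace_card hG hy, deg hG] at h
  omega

theorem point_sets {a : V} (ha : G.Adj x a) : ((secondSet G x).filter fun w => G.Adj w a).card = 15 := by
  have e : (secondSet G x).filter (fun w => G.Adj w a) = (univ.filter (G.Adj a)).erase x := by
    ext z
    simp only [mem_filter, mem_erase, mem_univ, true_and, mem_second]
    exact ⟨fun h => ⟨h.1.1, h.2.symm⟩, fun h => ⟨⟨h.1, fun h' => no_tri hG ha h' h.2⟩, h.2.symm⟩⟩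
  rw [e, card_erase_of_mem (by simp [ha.symm]), deg hG]

theorem pair_sets {a b : V} (ha : G.Adj x a) (hb : G.Adj x b) :
    ((secondSet G x).filter fun w => G.Adj w a ∧ G.Adj w b).card = if a = b then 15 else 3 := by
  split_ifs with hab
  · subst hab; simp only [and_self]; exact point_sets hG ha
  · have e : (secondSet G x).filter (fun w => G.Adj w a ∧ G.Adj w b) =
        (univ.filter fun z => G.Adj a z ∧ G.Adj b z).erase x := by
      ext z
      simp only [mem_filter, mem_erase, mem_univ, true_and, mem_second]
      exact ⟨fun h => ⟨h.1.1, h.2.1.symm, h.2.2.symm⟩,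
        fun h => ⟨⟨h.1, fun h' => no_tri hG ha h' h.2.1⟩, h.2.1.symm, h.2.2.symm⟩⟩
    rw [e, card_erase_of_mem (by simp [ha.symm, hb.symm]), common_ne hG hab (no_tri hG ha hb)]

theorem point_adj {y a : V} (hy : y ∈ secondSet G x) (ha : G.Adj x a) :
    ((secondSet G x).filter fun w => G.Adj y w ∧ G.Adj w a).card =
      if a ∈ trace G x y then 0 else 4 := by
  split_ifs with h
  · rw [card_eq_zero, filter_eq_empty_iff]
    exact fun w _ hw => no_tri hG (mem_trace.1 h).2 hw.1 hw.2.symm
  · rw [mem_trace] at h
    rw [← common_ne hG (v := y) (w := a) (fun e => (mem_second.1 hy).2 (e ▸ ha)) (fun e => h ⟨ha, e⟩)]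
    congr 1
    ext z
    simp only [mem_filter, mem_univ, true_and, mem_second]
    exact ⟨fun h => ⟨h.2.1, h.2.2.symm⟩, fun h =>
      ⟨⟨fun e => (mem_second.1 hy).2 (e ▸ h.1).symm, fun h' => no_tri hG ha h' h.2⟩, h.1, h.2.symm⟩⟩

theorem adj_adj {y z : V} (hy : y ∈ secondSet G x) :
    (((secondSet G x).filter fun w => G.Adj y w ∧ G.Adj z w).card : ℤ) =
      4 - 4 * (if G.Adj y z then 1 else 0) + 12 * (if y = z then 1 else 0) -
        ((trace G x y ∩ trace G x z).card : ℤ) := by
  have h := card_filter_add_card_filter_not (s := univ.filter fun w => G.Adj y w ∧ G.Adj z w) (G.Adj x)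
  have e1 : (univ.filter fun w => G.Adj y w ∧ G.Adj z w).filter (G.Adj x) =
      trace G x y ∩ trace G x z := by
    ext w; simp [mem_trace]; tauto
  have e2 : (univ.filter fun w => G.Adj y w ∧ G.Adj z w).filter (fun w => ¬ G.Adj x w) =
      (secondSet G x).filter (fun w => G.Adj y w ∧ G.Adj z w) := by
    ext w
    simp only [mem_filter, mem_univ, true_and, mem_second]
    exact ⟨fun h => ⟨⟨fun e => (mem_second.1 hy).2 (e ▸ h.1.1).symm, h.2⟩, h.1⟩,
      fun h => ⟨h.2, h.1.2⟩⟩
  rw [e1, e2] at h
  by_cases hyz : y = z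
  · subst hyz
    simp only [and_self, deg hG, inter_self] at h
    simp only [and_self, inter_self, G.irrefl, if_false, if_true]
    omega
  · by_cases ha : G.Adj y z
    · rw [common_adj hG ha] at h
      simp only [ha, hyz, if_false, if_true]
      omega
    · rw [common_ne hG hyz ha] at h
      simp only [ha, hyz, if_false]
      omega

theorem inter_eq_sum (y w : V) : ((trace G x y ∩ trace G x w).card : ℤ) =
    ∑ a ∈ trace G x y, if G.Adj w a then 1 else 0 := by
  rw [Finset.sum_boole]
  congr 2
  ext a
  simp [mem_trace]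
  tauto

theorem sum_inter {y : V} (hy : y ∈ secondSet G x) :
    ∑ w ∈ secondSet G x, ((trace G x y ∩ trace G x w).card : ℤ) = 60 := by
  simp only [inter_eq_sum hG]
  rw [sum_comm, sum_congr rfl fun a ha => by rw [sum_boole, point_sets hG (mem_trace.1 ha).1]]
  simp [trace_card hG hy]

theorem sum_adj_inter {y z : V} (hy : y ∈ secondSet G x) (hz : z ∈ secondSet G x) :
    ∑ w ∈ secondSet G x, (if G.Adj y w then 1 else 0) * ((trace G x z ∩ trace G x w).card : ℤ) =
      16 - 4 * ((trace G x y ∩ trace G x z).card : ℤ) := by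
  simp only [inter_eq_sum hG z, mul_sum, ite_zero_mul_ite_zero, one_mul]
  rw [sum_comm, sum_congr rfl fun a ha => by
    rw [sum_boole, point_adj hG hy (mem_trace.1 ha).1]]
  rw [inter_comm, ← filter_mem_eq_inter]
  have h := card_filter_add_card_filter_not (s := trace G x z) (fun a => a ∈ trace G x y)
  rw [trace_card hG hz] at h
  simp only [Nat.cast_ite, Nat.cast_zero, Nat.cast_ofNat, sum_ite, sum_const_zero, zero_add,
    sum_const, nsmul_eq_mul]
  omega

theorem sum_inter_inter {y z : V} (hy : y ∈ secondSet G x) (hz : z ∈ secondSet G x) :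
    ∑ w ∈ secondSet G x, ((trace G x y ∩ trace G x w).card : ℤ) *
        ((trace G x z ∩ trace G x w).card : ℤ) =
      48 + 12 * ((trace G x y ∩ trace G x z).card : ℤ) := by
  simp only [inter_eq_sum hG y, inter_eq_sum hG z, sum_mul_sum, ite_zero_mul_ite_zero, one_mul]
  rw [sum_comm]
  have : ∀ a ∈ trace G x y, ∑ w ∈ secondSet G x, ∑ b ∈ trace G x z,
      (if G.Adj w a ∧ G.Adj w b then 1 else 0 : ℤ) = 12 + 12 * (if G.Adj z a then 1 else 0) := by
    intro a ha
    rw [sum_comm, sum_congr rfl fun b hb => by
      rw [sum_boole, pair_sets hG (mem_trace.1 ha).1 (mem_trace.1 hb).1]]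
    have key : ∀ b, (((if a = b then 15 else 3 : ℕ)) : ℤ) = 3 + if a = b then 12 else 0 := fun b => by
      split_ifs <;> norm_num
    simp only [key, sum_add_distrib, sum_ite_eq, sum_const, trace_card hG hz]
    simp only [mem_trace, (mem_trace.1 ha).1, true_and]
    split_ifs <;> norm_num
  rw [sum_congr rfl this, sum_add_distrib, sum_const, trace_card hG hy, ← mul_sum]
  norm_num

theorem form_sq {y z : V} (hy : y ∈ secondSet G x) (hz : z ∈ secondSet G x) :
    ∑ w ∈ secondSet G x, form G x y w * form G x z w = 48 * form G x y z := by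
  have hA : ∀ v ∈ secondSet G x, ∑ w ∈ secondSet G x, (if G.Adj v w then 1 else 0 : ℤ) = 12 :=
    fun v hv => by rw [sum_boole, second_adj hG hv]; rfl
  have hAA : ∑ w ∈ secondSet G x, (if G.Adj y w then 1 else 0) * (if G.Adj z w then 1 else 0 : ℤ) =
      4 - 4 * (if G.Adj y z then 1 else 0) + 12 * (if y = z then 1 else 0) -
        ((trace G x y ∩ trace G x z).card : ℤ) := by
    simp only [ite_zero_mul_ite_zero, one_mul]
    rw [sum_boole, adj_adj hG hy]
  have hE : ∀ v ∈ secondSet G x, ∀ f : V → ℤ,
      ∑ w ∈ secondSet G x, (if v = w then 1 else 0) * f w = f v := fun v hv f => by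
    simp [ite_mul, sum_ite_eq, hv]
  have key : ∀ w, form G x y w * form G x z w =
      16 - 12 * ((trace G x y ∩ trace G x w).card : ℤ) - 12 * ((trace G x z ∩ trace G x w).card : ℤ)
      - 24 * (if G.Adj y w then 1 else 0) - 24 * (if G.Adj z w then 1 else 0)
      + 9 * (((trace G x y ∩ trace G x w).card : ℤ) * ((trace G x z ∩ trace G x w).card : ℤ))
      + 36 * ((if G.Adj y w then 1 else 0) * (if G.Adj z w then 1 else 0))
      + 18 * ((if G.Adj y w then 1 else 0) * ((trace G x z ∩ trace G x w).card : ℤ))
      + 18 * ((if G.Adj z w then 1 else 0) * ((trace G x y ∩ trace G x w).card : ℤ))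
      + 12 * ((if y = w then 1 else 0) * (4 - 3 * ((trace G x z ∩ trace G x w).card : ℤ)
          - 6 * (if G.Adj z w then 1 else 0)))
      + 12 * ((if z = w then 1 else 0) * (form G x y w)) := fun w => by
    simp only [form]
    ring
  simp only [key, sum_add_distrib, sum_sub_distrib, ← mul_sum, sum_const, second_card hG,
    sum_inter hG hy, sum_inter hG hz, hA y hy, hA z hz, hAA, sum_inter_inter hG hy hz,
    sum_adj_inter hG hy hz, sum_adj_inter hG hz hy, hE y hy, hE z hz]
  simp only [form, inter_comm (trace G x z) (trace G x y), G.adj_comm z y, nsmul_eq_mul,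
    Nat.cast_ofNat]
  ring

theorem form_sum {y : V} (hy : y ∈ secondSet G x) : ∑ w ∈ secondSet G x, form G x y w = 0 := by
  simp only [form, sum_add_distrib, sum_sub_distrib, ← mul_sum, sum_const, second_card hG,
    sum_inter hG hy, sum_boole, second_adj hG hy]
  simp [sum_ite_eq, hy, filter_eq]

end

theorem form_comm (y z : V) : form G x y z = form G x z y := by
  simp only [form, inter_comm, G.adj_comm, eq_comm]

section
variable (hG : G.IsSRGWith 77 16 0 4)
include hG

theorem form_self {y : V} (hy : y ∈ secondSet G x) : form G x y y = 4 := by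
  simp [form, trace_card hG hy]

theorem inter_le_two {y z : V} (hy : y ∈ secondSet G x) (hz : z ∈ secondSet G x) (hne : y ≠ z) :
    (trace G x y ∩ trace G x z).card ≤ 2 := by
  by_contra hlt
  obtain ⟨S, hS, hS3⟩ := exists_subset_card_eq (show 3 ≤ (trace G x y ∩ trace G x z).card by omega)
  obtain ⟨a, b, c, hab, hac, hbc, rfl⟩ := card_eq_three.1 hS3
  have hin : ∀ p ∈ ({a, b, c} : Finset V), G.Adj x p ∧ G.Adj y p ∧ G.Adj z p := fun p hp => by
    have := hS hp
    simp only [mem_inter, mem_trace] at this
    exact ⟨this.1.1, this.1.2, this.2.2⟩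
  obtain ⟨ha, hya, hza⟩ := hin a (by simp)
  obtain ⟨hb, hyb, hzb⟩ := hin b (by simp)
  obtain ⟨hc, hyc, hzc⟩ := hin c (by simp)
  have hnadj : ¬ G.Adj y z := fun h => no_tri hG h hya hza
  set A := fun p => (secondSet G x).filter fun w => G.Adj w p with hAdef
  have i2 : ∀ p q, G.Adj x p → G.Adj x q → p ≠ q → (A p ∩ A q).card = 3 := fun p q hp hq hpq => by
    rw [hAdef, ← filter_and, pair_sets hG hp hq, if_neg hpq]
  have h1 := card_union_add_card_inter (A a) (A b)
  have h2 := card_union_add_card_inter (A a ∪ A b) (A c)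
  have h3 := card_union_add_card_inter (A a ∩ A c) (A b ∩ A c)
  rw [← union_inter_distrib_right] at h3
  rw [i2 a b ha hb hab, hAdef, point_sets hG ha, point_sets hG hb] at h1
  rw [i2 a c ha hc hac, i2 b c hb hc hbc] at h3
  have h4 : 2 ≤ (A a ∩ A c ∩ (A b ∩ A c)).card := by
    rw [← card_pair hne]
    refine card_le_card fun w hw => ?_
    simp only [mem_insert, mem_singleton] at hw
    rcases hw with rfl | rfl <;> simp [hAdef, *]
  have hcc : (A c).card = 15 := by rw [hAdef]; exact point_sets hG hc
  set W := (secondSet G x).filter fun w => G.Adj y w ∨ G.Adj z w with hW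
  have hd : Disjoint W (A a ∪ A b ∪ A c) := by
    rw [disjoint_left]
    intro w hw hw'
    simp only [hW, hAdef, mem_filter, mem_union] at hw hw'
    rcases hw.2 with h | h <;> rcases hw' with (⟨-, h'⟩ | ⟨-, h'⟩) | ⟨-, h'⟩
    · exact no_tri hG h hya h'
    · exact no_tri hG h hyb h'
    · exact no_tri hG h hyc h'
    · exact no_tri hG h hza h'
    · exact no_tri hG h hzb h'
    · exact no_tri hG h hzc h'
  have hsub : W ∪ (A a ∪ A b ∪ A c) ⊆ secondSet G x :=
    union_subset (filter_subset _ _) (union_subset (union_subset (filter_subset _ _)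
      (filter_subset _ _)) (filter_subset _ _))
  have h5 := card_le_card hsub
  rw [card_union_of_disjoint hd, second_card hG] at h5
  have h6 := card_union_add_card_inter ((secondSet G x).filter (G.Adj y))
    ((secondSet G x).filter (G.Adj z))
  rw [← filter_or, ← filter_and, second_adj hG hy, second_adj hG hz, ← hW] at h6
  have h7 := adj_adj hG (z := z) hy
  rw [if_neg hnadj, if_neg hne] at h7
  simp only [hAdef] at h1 h2 h3 h4 h5 hcc
  omega

theorem form_values {y z : V} (hy : y ∈ secondSet G x) (hz : z ∈ secondSet G x) :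
    (form G x y z = 4 ∨ form G x y z = 1 ∨ form G x y z = -2) ∧
      (G.Adj y z → form G x y z = -2) := by
  by_cases hne : y = z
  · subst hne
    exact ⟨Or.inl (form_self hG hy), fun h => absurd h (G.irrefl)⟩
  have hle := inter_le_two hG hy hz hne
  have h0 : G.Adj y z → (trace G x y ∩ trace G x z).card = 0 := fun h => by
    rw [card_eq_zero]
    refine eq_empty_of_forall_notMem fun a ha => ?_
    simp only [mem_inter, mem_trace] at ha
    exact no_tri hG h ha.1.2 ha.2.2
  by_cases h : G.Adj y z
  · simp [form, h, hne, h0 h]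
  · simp only [form, h, hne, if_false, mul_zero, add_zero, sub_zero, false_implies, and_true]
    omega

theorem form_row {y z w : V} (hy : y ∈ secondSet G x) (hz : z ∈ secondSet G x)
    (hw : w ∈ secondSet G x) (h : form G x y z = 4) : form G x y w = form G x z w := by
  have : ∑ v ∈ secondSet G x, (form G x y v - form G x z v) ^ 2 = 0 := by
    have : ∀ v, (form G x y v - form G x z v) ^ 2 = form G x y v * form G x y v -
        2 * (form G x y v * form G x z v) + form G x z v * form G x z v := fun v => by ring
    simp only [this, sum_add_distrib, sum_sub_distrib, ← mul_sum, form_sq hG hy hz, form_sq hG hy hy,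
      form_sq hG hz hz, form_self hG hy, form_self hG hz, h]
    norm_num
  have := (sum_eq_zero_iff_of_nonneg fun v _ => sq_nonneg _).1 this w hw
  exact sub_eq_zero.1 (by simpa using this)

/-- the class of a non-neighbour -/
theorem class_card {y : V} (hy : y ∈ secondSet G x) :
    ((secondSet G x).filter fun z => form G x y z = 4).card = 4 := by
  have h : ∀ z ∈ secondSet G x, form G x y z * form G x y z + form G x y z - 2 =
      18 * if form G x y z = 4 then 1 else 0 := fun z hz => by
    rcases (form_values hG hy hz).1 with e | e | e <;> norm_num [e]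
  have := sum_congr rfl h
  rw [sum_sub_distrib, sum_add_distrib, form_sq hG hy hy, form_sum hG hy, form_self hG hy,
    sum_const, second_card hG, ← mul_sum, sum_boole] at this
  norm_num at this
  omega

end

end Cfsg.Agent.SRGSeventySeven
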