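import Mathlib
import Cfsg.Agent.SRGSeventySeven.Classes

/-! The independent sets of twenty-one points in a strongly regular graph with parameters
`(77, 16, 0, 4)`. -/

set_option autoImplicit false

namespace Cfsg.Agent.SRGSeventySeven

open Finset

variable {V : Type*} [Fintype V] [DecidableEq V] {G : SimpleGraph V} [DecidableRel G.Adj]

variable (G) in
/-- the independent sets of twenty-one points -/
def bigCocliques : Finset (Finset V) :=
  (univ.powerset).filter fun S => S.card = 21 ∧ ∀ a ∈ S, ∀ b ∈ S, ¬ G.Adj a b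

theorem mem_big {S : Finset V} :
    S ∈ bigCocliques G ↔ S.card = 21 ∧ ∀ a ∈ S, ∀ b ∈ S, ¬ G.Adj a b := by
  simp [bigCocliques]

variable (hG : G.IsSRGWith 77 16 0 4)
include hG

/-- a point outside a coclique of twenty-one points has six neighbours in it -/
theorem big_outside {S : Finset V} (hS : S ∈ bigCocliques G) {v : V} (hv : v ∉ S) :
    (S.filter (G.Adj v)).card = 6 := by
  obtain ⟨hc, hi⟩ := mem_big.1 hS
  set U := (univ : Finset V) \ S with hU
  have memU : ∀ w, w ∈ U ↔ w ∉ S := fun w => by simp [hU]
  have hUc : U.card = 56 := by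
    rw [hU, card_sdiff_of_subset (subset_univ _), card_univ, hG.card, hc]
  have hd : ∀ w, ((S.filter (G.Adj w)).card : ℤ) = ∑ s ∈ S, if G.Adj w s then 1 else 0 := fun w => by
    rw [sum_boole]
  have h1 : ∀ s ∈ S, (U.filter fun w => G.Adj w s).card = 16 := fun s hs => by
    rw [← deg hG s]
    congr 1
    ext w
    simp only [mem_filter, mem_univ, true_and, memU]
    exact ⟨fun h => h.2.symm, fun h => ⟨fun hw => hi s hs w hw h, h.symm⟩⟩
  have h2 : ∀ s ∈ S, ∀ s' ∈ S, (U.filter fun w => G.Adj w s ∧ G.Adj w s').card =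
      if s = s' then 16 else 4 := fun s hs s' hs' => by
    split_ifs with h
    · subst h; simp only [and_self]; exact h1 s hs
    · rw [← common_ne hG h (hi s hs s' hs')]
      congr 1
      ext w
      simp only [mem_filter, mem_univ, true_and, memU]
      exact ⟨fun h => ⟨h.2.1.symm, h.2.2.symm⟩,
        fun h => ⟨fun hw => hi s hs w hw h.1, h.1.symm, h.2.symm⟩⟩
  have s1 : ∑ w ∈ U, ((S.filter (G.Adj w)).card : ℤ) = 336 := by
    simp only [hd]
    rw [sum_comm, sum_congr rfl fun s hs => by rw [sum_boole, h1 s hs]]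
    simp [hc]
  have s2 : ∑ w ∈ U, ((S.filter (G.Adj w)).card : ℤ) * ((S.filter (G.Adj w)).card : ℤ) = 2016 := by
    simp only [hd, sum_mul_sum, ite_zero_mul_ite_zero, one_mul]
    rw [sum_comm, sum_congr rfl fun s hs => by
      rw [sum_comm, sum_congr rfl fun s' hs' => by rw [sum_boole, h2 s hs s' hs']]]
    have key : ∀ s s' : V, (((if s = s' then 16 else 4 : ℕ)) : ℤ) = 4 + if s = s' then 12 else 0 :=
      fun s s' => by split_ifs <;> norm_num
    simp only [key, sum_add_distrib, sum_ite_eq, sum_const, hc]
    simp [sum_ite_mem, hc]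
  have s0 : ∑ w ∈ U, (((S.filter (G.Adj w)).card : ℤ) - 6) ^ 2 = 0 := by
    have : ∀ w, (((S.filter (G.Adj w)).card : ℤ) - 6) ^ 2 =
        ((S.filter (G.Adj w)).card : ℤ) * ((S.filter (G.Adj w)).card : ℤ) -
          12 * ((S.filter (G.Adj w)).card : ℤ) + 36 := fun w => by ring
    simp only [this, sum_add_distrib, sum_sub_distrib, ← mul_sum, s1, s2, sum_const, hUc]
    norm_num
  have := (sum_eq_zero_iff_of_nonneg fun w _ => sq_nonneg _).1 s0 v ((memU v).2 hv)
  have h := sub_eq_zero.1 (sq_eq_zero_iff.1 this)
  exact_mod_cast h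

theorem big_sub {x : V} {S : Finset V} (hS : S ∈ bigCocliques G) (hx : x ∈ S) :
    S.erase x ⊆ secondSet G x := fun w hw => by
  rw [mem_erase] at hw
  exact mem_second.2 ⟨hw.1, (mem_big.1 hS).2 x hx w hw.2⟩

/-- a coclique of twenty-one points through `x` is closed for the classes -/
theorem big_closed {x y : V} {S : Finset V} (hS : S ∈ bigCocliques G) (hx : x ∈ S)
    (hy : y ∈ S.erase x) :
    (∀ w ∈ secondSet G x, form G x y w = 4 → w ∈ S.erase x) ∧
      ∀ w ∈ S.erase x, form G x y w ≠ -2 := by
  obtain ⟨hc, hi⟩ := mem_big.1 hS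
  have hsub := big_sub hG hS hx
  have hy2 := hsub hy
  have hc' : (S.erase x).card = 20 := by rw [card_erase_of_mem hx, hc]
  have hI : ∑ w ∈ S.erase x, ((trace G x y ∩ trace G x w).card : ℤ) = 20 := by
    simp only [inter_eq_sum hG]
    rw [sum_comm]
    have : ∀ a ∈ trace G x y, ∑ w ∈ S.erase x, (if G.Adj w a then 1 else 0 : ℤ) = 5 := by
      intro a ha
      obtain ⟨hxa, -⟩ := mem_trace.1 ha
      have hn : a ∉ S := fun h => hi x hx a h hxa
      have h6 := big_outside hG hS hn
      rw [sum_boole]
      have e : (S.erase x).filter (fun w => G.Adj w a) = (S.filter (G.Adj a)).erase x := by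
        ext w; simp [G.adj_comm a w]; tauto
      rw [e, card_erase_of_mem (by simp [hx, hxa.symm]), h6]
      norm_num
    rw [sum_congr rfl this, sum_const, trace_card hG hy2]
    norm_num
  have hM : ∑ w ∈ S.erase x, form G x y w = 32 := by
    have hA : ∑ w ∈ S.erase x, (if G.Adj y w then 1 else 0 : ℤ) = 0 :=
      sum_eq_zero fun w hw => by simp [hi y (mem_of_mem_erase hy) w (mem_of_mem_erase hw)]
    simp only [form, sum_add_distrib, sum_sub_distrib, ← mul_sum, hI, hA, sum_const, hc']
    simp [hy]
  have hval : ∀ w ∈ S.erase x, form G x y w - 1 = 3 * (if form G x y w = 4 then 1 else 0) -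
      3 * (if form G x y w = -2 then 1 else 0) := fun w hw => by
    rcases (form_values hG hy2 (hsub hw)).1 with e | e | e <;> norm_num [e]
  have h := sum_congr rfl hval
  rw [sum_sub_distrib, sum_sub_distrib, hM, ← mul_sum, ← mul_sum, sum_boole, sum_boole, sum_const,
    hc'] at h
  norm_num at h
  have hle : ((S.erase x).filter fun w => form G x y w = 4).card ≤ 4 :=
    (card_le_card (filter_subset_filter _ hsub)).trans (class_card hG hy2).le
  refine ⟨fun w hw h4 => ?_, fun w hw h2 => ?_⟩
  · have e := eq_of_subset_of_card_le (filter_subset_filter (fun w => form G x y w = 4) hsub)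
      (by rw [class_card hG hy2]; omega)
    exact (mem_filter.1 (e ▸ mem_filter.2 ⟨hw, h4⟩ :
      w ∈ (S.erase x).filter fun w => form G x y w = 4)).1
  · have : 0 < ((S.erase x).filter fun w => form G x y w = -2).card :=
      card_pos.2 ⟨w, mem_filter.2 ⟨hw, h2⟩⟩
    omega

theorem neg_count {x y : V} (hy : y ∈ secondSet G x) :
    ((secondSet G x).filter fun w => form G x y w = -2).card = 24 := by
  have h : ∀ w ∈ secondSet G x, form G x y w * form G x y w - 5 * form G x y w + 4 =
      18 * if form G x y w = -2 then 1 else 0 := fun w hw => by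
    rcases (form_values hG hy hw).1 with e | e | e <;> norm_num [e]
  have := sum_congr rfl h
  rw [sum_add_distrib, sum_sub_distrib, form_sq hG hy hy, ← mul_sum, form_sum hG hy,
    form_self hG hy, sum_const, second_card hG, ← mul_sum, sum_boole] at this
  norm_num at this
  omega

theorem neg_common {x y z : V} (hy : y ∈ secondSet G x) (hz : z ∈ secondSet G x) :
    9 * (((secondSet G x).filter fun w => form G x y w = -2 ∧ form G x z w = -2).card : ℤ) =
      24 * form G x y z + 84 + 36 * (if form G x y z = 4 then 1 else 0) := by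
  have hE : ∀ v ∈ secondSet G x, ∑ w ∈ secondSet G x, (if form G x v w = 4 then 1 else 0 : ℤ) = 4 :=
    fun v hv => by rw [sum_boole, class_card hG hv]; rfl
  have hEg : ∀ u ∈ secondSet G x, ∀ v ∈ secondSet G x,
      ∑ w ∈ secondSet G x, (if form G x u w = 4 then 1 else 0) * form G x v w =
        4 * form G x v u := by
    intro u hu v hv
    have : ∀ w ∈ secondSet G x, (if form G x u w = 4 then 1 else 0) * form G x v w =
        (if form G x u w = 4 then 1 else 0) * form G x v u := fun w hw => by
      split_ifs with h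
      · rw [form_comm v w, form_comm v u, form_row hG hu hw hv h]
      · simp
    rw [sum_congr rfl this, ← sum_mul, hE u hu]
  have hEE : ∑ w ∈ secondSet G x,
      (if form G x y w = 4 then 1 else 0) * (if form G x z w = 4 then 1 else 0 : ℤ) =
      4 * (if form G x y z = 4 then 1 else 0) := by
    have : ∀ w ∈ secondSet G x,
        (if form G x y w = 4 then 1 else 0) * (if form G x z w = 4 then 1 else 0 : ℤ) =
        (if form G x y w = 4 then 1 else 0) * (if form G x y z = 4 then 1 else 0) := fun w hw => by
      by_cases h : form G x y w = 4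
      · rw [form_row hG hy hw hz h, form_comm w z]
      · simp [h]
    rw [sum_congr rfl this, ← sum_mul, hE y hy]
  have key : ∀ w ∈ secondSet G x, (9 : ℤ) * (if form G x y w = -2 ∧ form G x z w = -2 then 1 else 0) =
      (form G x y w * form G x z w - form G x y w - form G x z w + 1)
      - 3 * ((if form G x z w = 4 then 1 else 0) * form G x y w)
      - 3 * ((if form G x y w = 4 then 1 else 0) * form G x z w)
      + 3 * (if form G x y w = 4 then 1 else 0) + 3 * (if form G x z w = 4 then 1 else 0)
      + 9 * ((if form G x y w = 4 then 1 else 0) * (if form G x z w = 4 then 1 else 0)) :=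
    fun w hw => by
    rcases (form_values hG hy hw).1 with e | e | e <;>
      rcases (form_values hG hz hw).1 with e' | e' | e' <;> norm_num [e, e']
  have h := sum_congr rfl key
  rw [← mul_sum, sum_boole] at h
  rw [h]
  simp only [sum_add_distrib, sum_sub_distrib, ← mul_sum, form_sq hG hy hz, form_sum hG hy,
    form_sum hG hz, hE y hy, hE z hz, hEg y hy z hz, hEg z hz y hy, hEE, sum_const, second_card hG,
    nsmul_eq_mul, Nat.cast_ofNat, form_comm z y]
  ring

/-- Through two non-adjacent points pass exactly two cocliques of twenty-one points. -/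
theorem big_through_two {x y : V} (hne : y ≠ x) (hxy : ¬ G.Adj x y) :
    ((bigCocliques G).filter fun S => x ∈ S ∧ y ∈ S).card = 2 := by
  have hy : y ∈ secondSet G x := mem_second.2 ⟨hne, hxy⟩
  set R := secondSet G x with hR
  set K : V → Finset V := fun v => R.filter fun w => form G x v w = 4 with hK
  have Keq : ∀ u ∈ R, ∀ v ∈ R, (K u = K v ↔ form G x u v = 4) := fun u hu v hv => by
    constructor
    · intro h
      have : v ∈ K u := by rw [h]; exact mem_filter.2 ⟨hv, form_self hG hv⟩
      exact (mem_filter.1 this).2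
    · intro h
      refine filter_congr fun w hw => ?_
      rw [form_row hG hu hv hw h]
  set T := R.image K with hT
  set ρ : {C // C ∈ T} → V := fun C => (mem_image.1 C.2).choose with hρ
  have ρR : ∀ C, ρ C ∈ R := fun C => (mem_image.1 C.2).choose_spec.1
  have ρK : ∀ C, K (ρ C) = C.1 := fun C => (mem_image.1 C.2).choose_spec.2
  let π : ∀ v ∈ R, {C // C ∈ T} := fun v hv => ⟨K v, mem_image_of_mem _ hv⟩
  have πform : ∀ v (hv : v ∈ R) (w : V), w ∈ R → form G x (ρ (π v hv)) w = form G x v w :=
    fun v hv w hw => form_row hG (ρR _) hv hw ((Keq _ (ρR _) v hv).1 (ρK _))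
  have hfib : ∀ C ∈ T, (R.filter fun w => K w = C).card = 4 := fun C hC => by
    obtain ⟨v, hv, rfl⟩ := mem_image.1 hC
    rw [← class_card hG hv]
    exact congrArg card (filter_congr fun w hw => by rw [eq_comm, Keq v hv w hw])
  have lift : ∀ (p : V → Prop) [DecidablePred p],
      (∀ u ∈ R, ∀ v ∈ R, form G x u v = 4 → (p u ↔ p v)) →
      (R.filter p).card = 4 * ((univ : Finset {C // C ∈ T}).filter fun C => p (ρ C)).card := by
    intro p _ hp
    rw [card_eq_sum_card_fiberwise (f := K) (t := T) fun v hv =>
      mem_image_of_mem _ (mem_filter.1 hv).1, ← sum_coe_sort T,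
      card_filter (fun C => p (ρ C)), mul_sum]
    refine sum_congr rfl fun C _ => ?_
    rw [filter_filter]
    by_cases h : p (ρ C)
    · rw [if_pos h, mul_one, ← hfib C.1 C.2]
      refine congrArg card (filter_congr fun w hw => ⟨fun h' => h'.2, fun h' => ⟨?_, h'⟩⟩)
      exact (hp w hw _ (ρR C) ((Keq w hw _ (ρR C)).1 (h'.trans (ρK C).symm))).2 h
    · rw [if_neg h, mul_zero, card_eq_zero, filter_eq_empty_iff]
      exact fun w hw h' => h ((hp w hw _ (ρR C) ((Keq w hw _ (ρR C)).1 (h'.2.trans (ρK C).symm))).1 h'.1)
  have hT15 : Fintype.card {C // C ∈ T} = 15 := by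
    have := lift (fun _ => True) (fun _ _ _ _ _ => Iff.rfl)
    simp only [filter_true, second_card hG, hR, card_univ] at this
    omega
  have hπ : ∀ C, π (ρ C) (ρR C) = C := fun C => Subtype.ext (ρK C)
  have h5 := two_indep_five (fun C D : {C // C ∈ T} => form G x (ρ C) (ρ D) = -2) hT15
    (fun C D h => by rw [form_comm]; exact h)
    (fun C h => by rw [form_self hG (ρR C)] at h; norm_num at h)
    (fun C => by
      have := lift (fun w => form G x (ρ C) w = -2) fun u hu v hv h => by
        rw [form_comm (ρ C) u, form_comm (ρ C) v, form_row hG hu hv (ρR C) h]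
      rw [neg_count hG (ρR C)] at this
      have e : ((univ : Finset {C // C ∈ T}).filter fun D => form G x (ρ C) (ρ D) = -2).card = 6 := by
        omega
      convert e using 2)
    (fun C D h => by
      have := lift (fun w => form G x (ρ C) w = -2 ∧ form G x (ρ D) w = -2) fun u hu v hv h' => by
        rw [form_comm (ρ C) u, form_comm (ρ C) v, form_row hG hu hv (ρR C) h',
          form_comm (ρ D) u, form_comm (ρ D) v, form_row hG hu hv (ρR D) h']
      have h' := neg_common hG (ρR C) (ρR D)
      rw [this, h, if_neg (by norm_num)] at h'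
      have e : ((univ : Finset {C // C ∈ T}).filter fun w =>
          form G x (ρ C) (ρ w) = -2 ∧ form G x (ρ D) (ρ w) = -2).card = 1 := by omega
      convert e using 2)
    (fun C D hCD h => by
      have := lift (fun w => form G x (ρ C) w = -2 ∧ form G x (ρ D) w = -2) fun u hu v hv h' => by
        rw [form_comm (ρ C) u, form_comm (ρ C) v, form_row hG hu hv (ρR C) h',
          form_comm (ρ D) u, form_comm (ρ D) v, form_row hG hu hv (ρR D) h']
      have h' := neg_common hG (ρR C) (ρR D)
      have h1 : form G x (ρ C) (ρ D) = 1 := by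
        rcases (form_values hG (ρR C) (ρR D)).1 with e | e | e
        · refine absurd (Subtype.ext ?_) hCD
          rw [← ρK C, ← ρK D, Keq _ (ρR C) _ (ρR D)]
          exact e
        · exact e
        · exact absurd e h
      rw [this, h1, if_neg (by norm_num)] at h'
      have e : ((univ : Finset {C // C ∈ T}).filter fun w =>
          form G x (ρ C) (ρ w) = -2 ∧ form G x (ρ D) (ρ w) = -2).card = 3 := by omega
      convert e using 2)
    (π y hy)
  rw [← h5]
  refine card_bij' (fun S _ => (univ : Finset {C // C ∈ T}).filter fun C => ρ C ∈ S)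
    (fun F _ => insert x (R.filter fun w => ∃ C ∈ F, K w = C.1)) ?_ ?_ ?_ ?_
  · intro S hS
    simp only [mem_filter] at hS
    obtain ⟨hS, hxS, hyS⟩ := hS
    have hy' : y ∈ S.erase x := mem_erase.2 ⟨hne, hyS⟩
    have hR' : ∀ w ∈ R, w ∈ S.erase x → ∀ v ∈ R, form G x w v = 4 → v ∈ S.erase x :=
      fun w _ hw v hv h => (big_closed hG hS hxS hw).1 v hv h
    simp only [mem_filter, mem_powersetCard, subset_univ, true_and, mem_univ]
    have hρne : ∀ C, ρ C ≠ x := fun C => (mem_second.1 (ρR C)).1
    refine ⟨?_, ?_, ?_⟩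
    · have := lift (fun w => w ∈ S.erase x) fun u hu v hv h =>
        ⟨fun hu' => hR' u hu hu' v hv h, fun hv' => hR' v hv hv' u hu (by rw [form_comm]; exact h)⟩
      rw [filter_mem_eq_inter, inter_eq_right.2 (big_sub hG hS hxS), card_erase_of_mem hxS,
        (mem_big.1 hS).1] at this
      simp only [mem_erase, hρne, ne_eq, not_false_iff, true_and] at this
      omega
    · exact mem_of_mem_erase (hR' y hy hy' _ (ρR _)
        (by rw [form_comm]; exact (Keq (ρ (π y hy)) (ρR _) y hy).1 (ρK (π y hy))))
    · intro C hC D hD h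
      exact (big_closed hG hS hxS (mem_erase.2 ⟨hρne C, hC⟩)).2 _ (mem_erase.2 ⟨hρne D, hD⟩) h
  · intro F hF
    simp only [mem_filter, mem_powersetCard, subset_univ, true_and] at hF
    obtain ⟨hF5, hyF, hFi⟩ := hF
    simp only [mem_filter, mem_big, mem_insert_self, true_and]
    have hcard : (R.filter fun w => ∃ C ∈ F, K w = C.1).card = 20 := by
      rw [lift (fun w => ∃ C ∈ F, K w = C.1) fun u hu v hv h => by rw [(Keq u hu v hv).2 h]]
      have : ((univ : Finset {C // C ∈ T}).filter fun C => ∃ D ∈ F, K (ρ C) = D.1) = F := by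
        ext C
        simp only [mem_filter, mem_univ, true_and, ρK, ← Subtype.ext_iff, exists_eq_right']
      rw [this, hF5]
    refine ⟨⟨?_, ?_⟩, mem_insert_of_mem (mem_filter.2 ⟨hy, _, hyF, rfl⟩)⟩
    · rw [card_insert_of_notMem (by simp [hR, mem_second]), hcard]
    · intro a ha b hb hab
      rw [mem_insert, mem_filter] at ha hb
      rcases ha with rfl | ⟨ha, C, hC, hCa⟩ <;> rcases hb with rfl | ⟨hb, D, hD, hDb⟩
      · exact G.irrefl hab
      · exact (mem_second.1 hb).2 hab
      · exact (mem_second.1 ha).2 hab.symm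
      · have e1 : π a ha = C := Subtype.ext hCa
        have e2 : π b hb = D := Subtype.ext hDb
        apply hFi C hC D hD
        rw [← e1, ← e2, πform a ha _ (ρR _), form_comm, πform b hb _ ha, form_comm,
          (form_values hG ha hb).2 hab]
  · intro S hS
    simp only [mem_filter] at hS
    obtain ⟨hS, hxS, -⟩ := hS
    ext w
    simp only [mem_insert, mem_filter, mem_univ, true_and]
    constructor
    · rintro (rfl | ⟨hw, C, hC, hCw⟩)
      · exact hxS
      · exact mem_of_mem_erase ((big_closed hG hS hxS
          (mem_erase.2 ⟨(mem_second.1 (ρR C)).1, hC⟩)).1 w hw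
          ((Keq _ (ρR C) w hw).1 ((ρK C).trans hCw.symm)))
    · intro hw
      by_cases hwx : w = x
      · exact Or.inl hwx
      · have hwR := big_sub hG hS hxS (mem_erase.2 ⟨hwx, hw⟩)
        refine Or.inr ⟨hwR, π w hwR, ?_, rfl⟩
        exact mem_of_mem_erase ((big_closed hG hS hxS (mem_erase.2 ⟨hwx, hw⟩)).1 _ (ρR _)
          (by rw [form_comm]; exact (Keq (ρ (π w hwR)) (ρR _) w hwR).1 (ρK (π w hwR))))
  · intro F _
    ext C
    simp only [mem_filter, mem_univ, true_and, mem_insert, (mem_second.1 (ρR C)).1, false_or]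
    simp only [ρR C, ρK, ← Subtype.ext_iff, exists_eq_right', true_and]

/-- Through each point pass exactly six cocliques of twenty-one points. -/
theorem big_through_one (x : V) : ((bigCocliques G).filter fun S => x ∈ S).card = 6 := by
  have h := sum_card_bipartiteAbove_eq_sum_card_bipartiteBelow (fun (y : V) (S : Finset V) => y ∈ S)
    (s := secondSet G x) (t := (bigCocliques G).filter fun S => x ∈ S)
  have e1 : ∀ y ∈ secondSet G x, (((bigCocliques G).filter fun S => x ∈ S).filter
      fun S => y ∈ S).card = 2 := fun y hy => by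
    rw [filter_filter]
    exact big_through_two hG (mem_second.1 hy).1 (mem_second.1 hy).2
  have e2 : ∀ S ∈ (bigCocliques G).filter (fun S => x ∈ S),
      ((secondSet G x).filter fun y => y ∈ S).card = 20 := fun S hS => by
    rw [mem_filter] at hS
    have : (secondSet G x).filter (fun y => y ∈ S) = S.erase x := by
      ext w
      rw [mem_filter, mem_erase]
      exact ⟨fun h => ⟨(mem_second.1 h.1).1, h.2⟩,
        fun h => ⟨big_sub hG hS.1 hS.2 (mem_erase.2 h), h.2⟩⟩
    rw [this, card_erase_of_mem hS.2, (mem_big.1 hS.1).1]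
  simp only [bipartiteAbove, bipartiteBelow] at h
  rw [sum_congr rfl e1, sum_congr rfl e2, sum_const, sum_const, second_card hG, smul_eq_mul,
    smul_eq_mul] at h
  omega

end Cfsg.Agent.SRGSeventySeven
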