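import Mathlib
import Cfsg.Prelude.Def_Sporadic_a
import Cfsg.Agent.SRGSeventySeven.Cocliques
import Cfsg.Agent.Leech.Unique.SRGHundred

/-! Uniqueness of the strongly regular graph with parameters `(77, 16, 0, 4)`. -/

set_option autoImplicit false

namespace Cfsg.Agent.SRGSeventySeven

open Cfsg Finset

variable {V : Type*} [Fintype V] [DecidableEq V] {G : SimpleGraph V} [DecidableRel G.Adj]

/-- such a graph is the block graph of a Steiner system `S(3, 6, 22)` -/
theorem exists_steiner (hG : G.IsSRGWith 77 16 0 4) :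
    ∃ B : Set (Finset {S : Finset V // S ∈ bigCocliques G}),
      Fintype.card {S : Finset V // S ∈ bigCocliques G} = 22 ∧
      IsSteinerSystem 3 6 B ∧ Nonempty (G ≃g blockGraph B) := by
  set Ω := bigCocliques G
  set b : V → Finset {S : Finset V // S ∈ Ω} := fun v => univ.filter fun S => v ∈ S.1 with hb
  have hcount : ∀ (p : Finset V → Prop) [DecidablePred p],
      ((univ : Finset {S : Finset V // S ∈ Ω}).filter fun S => p S.1).card = (Ω.filter p).card := by
    intro p _
    rw [← card_map (Function.Embedding.subtype _)]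
    congr 1
    ext S
    simp only [mem_map, mem_filter, mem_univ, true_and, Function.Embedding.coe_subtype,
      Subtype.exists, exists_and_left, exists_prop]
    grind
  have h22 : Fintype.card {S : Finset V // S ∈ Ω} = 22 := by
    have h := sum_card_bipartiteAbove_eq_sum_card_bipartiteBelow
      (fun (v : V) (S : Finset V) => v ∈ S) (s := univ) (t := Ω)
    simp only [bipartiteAbove, bipartiteBelow] at h
    have e : ∑ S ∈ Ω, (univ.filter fun v => v ∈ S).card = ∑ _S ∈ Ω, 21 :=
      sum_congr rfl fun S hS => by rw [filter_mem_eq_inter, univ_inter, (mem_big.1 hS).1]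
    rw [sum_congr rfl fun v _ => big_through_one hG v, e,
      sum_const, sum_const, card_univ, hG.card, smul_eq_mul, smul_eq_mul] at h
    rw [Fintype.card_coe]
    omega
  have b6 : ∀ v, (b v).card = 6 := fun v => by
    rw [hb, hcount (fun S => v ∈ S)]
    exact big_through_one hG v
  have bdis : ∀ v w, G.Adj v w → Disjoint (b v) (b w) := fun v w h => by
    rw [disjoint_left]
    intro S hv hw
    simp only [hb, mem_filter, mem_univ, true_and] at hv hw
    exact (mem_big.1 S.2).2 v hv w hw h
  have b2 : ∀ v w, v ≠ w → ¬ G.Adj v w → (b v ∩ b w).card = 2 := fun v w hne h => by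
    rw [hb, ← filter_and, hcount (fun S => v ∈ S ∧ w ∈ S)]
    exact big_through_two hG hne.symm h
  have binj : Function.Injective b := fun v w h => by
    by_contra hne
    by_cases ha : G.Adj v w
    · have := bdis v w ha
      rw [h, disjoint_self, bot_eq_empty, ← card_eq_zero, b6] at this
      omega
    · have := b2 v w hne ha
      rw [h, inter_self, b6] at this
      omega
  have ble : ∀ v w, v ≠ w → (b v ∩ b w).card ≤ 2 := fun v w hne => by
    by_cases ha : G.Adj v w
    · rw [disjoint_iff_inter_eq_empty.1 (bdis v w ha), card_empty]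
      exact Nat.zero_le _
    · exact (b2 v w hne ha).le
  refine ⟨Set.range b, h22, ⟨?_, ?_⟩, ?_⟩
  · rintro _ ⟨v, rfl⟩
    exact b6 v
  · intro s hs
    have hall : (univ : Finset V).biUnion (fun v => (b v).powersetCard 3) = univ.powersetCard 3 := by
      refine eq_of_subset_of_card_le
        (biUnion_subset.2 fun v _ => powersetCard_mono (subset_univ _)) ?_
      rw [card_biUnion, sum_congr rfl fun v _ => by rw [card_powersetCard, b6 v], sum_const,
        card_powersetCard, card_univ, card_univ, h22, hG.card]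
      · decide
      · intro v _ w _ hne
        rw [Function.onFun, disjoint_left]
        intro t htv htw
        rw [mem_powersetCard] at htv htw
        have := card_le_card (subset_inter htv.1 htw.1)
        have := ble v w hne
        omega
    have hmem : s ∈ (univ : Finset {S : Finset V // S ∈ Ω}).powersetCard 3 :=
      mem_powersetCard.2 ⟨subset_univ _, hs⟩
    rw [← hall, mem_biUnion] at hmem
    obtain ⟨v, -, hv⟩ := hmem
    rw [mem_powersetCard] at hv
    refine ⟨b v, ⟨⟨v, rfl⟩, hv.1⟩, ?_⟩
    rintro _ ⟨⟨w, rfl⟩, hw⟩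
    by_contra hne
    have := card_le_card (subset_inter hw hv.1)
    have := ble w v (fun e => hne (by rw [e]))
    omega
  · refine ⟨⟨Equiv.ofBijective (fun v => ⟨b v, v, rfl⟩)
      ⟨fun v w h => binj (congrArg Subtype.val h), by rintro ⟨_, v, rfl⟩; exact ⟨v, rfl⟩⟩, ?_⟩⟩
    intro v w
    show (blockGraph (Set.range b)).Adj ⟨b v, v, rfl⟩ ⟨b w, w, rfl⟩ ↔ G.Adj v w
    simp only [blockGraph, SimpleGraph.fromRel_adj, ne_eq]
    constructor
    · rintro ⟨hne, hd⟩
      by_contra ha
      have h2 := b2 v w (fun e => hne (Subtype.ext (by rw [e]))) ha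
      have hd' : Disjoint (b v) (b w) := hd.elim id (fun h' => h'.symm)
      rw [disjoint_iff_inter_eq_empty.1 hd', card_empty] at h2
      omega
    · intro h
      exact ⟨fun e => h.ne (binj (congrArg Subtype.val e)), Or.inl (bdis v w h)⟩

theorem block_congr {α β : Type*} [DecidableEq β] {B : Set (Finset α)} {B' : Set (Finset β)}
    (h : SetSystemIso B B') : Nonempty (blockGraph B ≃g blockGraph B') := by
  classical
  obtain ⟨e, he⟩ := h
  let eB : B ≃ B' := Equiv.ofBijective
    (fun b => ⟨(b : Finset α).image e, he ▸ Set.mem_image_of_mem _ b.2⟩)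
    ⟨fun b c hbc => Subtype.ext (Finset.image_injective e.injective (congrArg Subtype.val hbc)),
      fun c => by
        obtain ⟨b, hb, hbc⟩ : (c : Finset β) ∈ (fun b => b.image e) '' B := by rw [he]; exact c.2
        exact ⟨⟨b, hb⟩, Subtype.ext hbc⟩⟩
  have heB : ∀ b, ((eB b : B') : Finset β) = (b : Finset α).image e := fun b => rfl
  refine ⟨⟨eB, ?_⟩⟩
  intro b c
  simp [blockGraph, SimpleGraph.fromRel_adj, heB, Finset.disjoint_image e.injective]

theorem srg_seventy_seven_unique {W : Type*} [Fintype W] [DecidableEq W] {H : SimpleGraph W}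
    [DecidableRel H.Adj] (hG : G.IsSRGWith 77 16 0 4) (hH : H.IsSRGWith 77 16 0 4) :
    Nonempty (G ≃g H) := by
  obtain ⟨B, hc, hB, ⟨e⟩⟩ := exists_steiner hG
  obtain ⟨B', hc', hB', ⟨e'⟩⟩ := exists_steiner hH
  obtain ⟨m⟩ := block_congr (Cfsg.Agent.Leech.Unique.big_unique
    (⟨by norm_num, by rw [hc], hB⟩ : Cfsg.Agent.Leech.Unique.Big B 2) ⟨by norm_num, by rw [hc'], hB'⟩)
  exact ⟨(e.trans m).trans e'.symm⟩

end Cfsg.Agent.SRGSeventySeven
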